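import Groth.Agent.QCRange.Basic
import Groth.Agent.AffLim.Integral

/-!
# Irreducible components through a point
-/

set_option autoImplicit false
set_option linter.style.haveILetI false

universe u

open CategoryTheory CategoryTheory.Limits AlgebraicGeometry TopologicalSpace

namespace Groth.Agent.FinCondEasy

variable (X : Scheme.{u})

theorem exists_irreducible_nhd [IsLocallyNoetherian X] (x : X)
    (hx : (nilradical (X.presheaf.stalk x)).IsPrime) :
    ∃ U : X.Opens, x ∈ U ∧ IsIrreducible (U : Set X) := by
  obtain ⟨U, hxU, hU, hinj⟩ := X.exists_germ_injective x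
  have hprime : (nilradical Γ(X, U)).IsPrime := by
    have e : nilradical Γ(X, U) =
        (nilradical (X.presheaf.stalk x)).comap (X.presheaf.germ U x hxU).hom := by
      ext a
      simp only [mem_nilradical, Ideal.mem_comap]
      exact (IsNilpotent.map_iff hinj).symm
    rw [e]
    exact hx.comap _
  haveI : IrreducibleSpace (Spec Γ(X, U)) :=
    PrimeSpectrum.irreducibleSpace_iff_isPrime_nilradical.2 hprime
  refine ⟨U, hxU, ?_⟩
  rw [← hU.range_fromSpec, ← Set.image_univ]
  exact (IrreducibleSpace.isIrreducible_univ _).image _ hU.fromSpec.continuous.continuousOn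

theorem exists_reduced_nhd [IsLocallyNoetherian X] (x : X) [IsReduced (X.presheaf.stalk x)] :
    ∃ U : X.Opens, x ∈ U ∧ IsReduced (U : Scheme.{u}) := by
  obtain ⟨U, hxU, hU, hinj⟩ := X.exists_germ_injective x
  haveI : _root_.IsReduced Γ(X, U) := isReduced_of_injective (X.presheaf.germ U x hxU).hom hinj
  exact ⟨U, hxU, isReduced_of_isOpenImmersion hU.isoSpec.hom⟩

theorem pairwiseDisjoint_iff :
    (irreducibleComponents (X : Type u)).PairwiseDisjoint id ↔
      ∀ x : X, (nilradical (X.presheaf.stalk x)).IsPrime := by
  refine ⟨fun hd x => ?_, fun h Z₁ hZ₁ Z₂ hZ₂ hne => ?_⟩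
  · rw [← PrimeSpectrum.irreducibleSpace_iff_isPrime_nilradical]
    have hZ := irreducibleComponent_mem_irreducibleComponents x
    obtain ⟨ζ, hζ⟩ := QuasiSober.sober (isIrreducible_irreducibleComponent (x := x))
      isClosed_irreducibleComponent
    have hζx : ζ ⤳ x := hζ.specializes mem_irreducibleComponent
    have hr : ζ ∈ Set.range (X.fromSpecStalk x).base := by
      rw [Scheme.range_fromSpecStalk]; exact hζx
    obtain ⟨r, hr⟩ := hr
    suffices e : closure ({r} : Set (Spec (X.presheaf.stalk x))) = Set.univ by
      refine (irreducibleSpace_def _).2 ?_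
      exact Eq.mp (congrArg IsIrreducible e) isIrreducible_singleton.closure
    refine Set.eq_univ_iff_forall.2 fun p => ?_
    rw [← specializes_iff_mem_closure, ← (X.fromSpecStalk x).isEmbedding.specializes_iff, hr]
    have hp : (X.fromSpecStalk x).base p ⤳ x := by
      have hp' : (X.fromSpecStalk x).base p ∈ Set.range (X.fromSpecStalk x).base := ⟨p, rfl⟩
      rw [Scheme.range_fromSpecStalk] at hp'
      exact hp'
    have e : irreducibleComponent ((X.fromSpecStalk x).base p) = irreducibleComponent x :=
      hd.elim (irreducibleComponent_mem_irreducibleComponents _) hZ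
        (Set.not_disjoint_iff.2 ⟨x, hp.mem_closed isClosed_irreducibleComponent mem_irreducibleComponent,
          mem_irreducibleComponent⟩)
    exact hζ.specializes (e ▸ mem_irreducibleComponent)
  · rw [Function.onFun, Set.disjoint_iff_inter_eq_empty, Set.eq_empty_iff_forall_notMem]
    rintro x ⟨hx₁, hx₂⟩
    haveI : IrreducibleSpace (Spec (X.presheaf.stalk x)) :=
      PrimeSpectrum.irreducibleSpace_iff_isPrime_nilradical.2 (h x)
    let ζ₀ := (X.fromSpecStalk x).base (genericPoint (Spec (X.presheaf.stalk x)))
    have key : ∀ Z ∈ irreducibleComponents (X : Type u), x ∈ Z → Z = closure {ζ₀} := by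
      intro Z hZ hx
      obtain ⟨ζ, hζ⟩ := QuasiSober.sober hZ.1 (isClosed_of_mem_irreducibleComponents Z hZ)
      have hr : ζ ∈ Set.range (X.fromSpecStalk x).base := by
        rw [Scheme.range_fromSpecStalk]; exact hζ.specializes hx
      obtain ⟨r, rfl⟩ := hr
      have hs : ζ₀ ⤳ (X.fromSpecStalk x).base r :=
        (genericPoint_specializes r).map (X.fromSpecStalk x).continuous
      have hsub : Z ⊆ closure {ζ₀} := by
        rw [← hζ.def]
        exact closure_minimal (Set.singleton_subset_iff.2 hs.mem_closure) isClosed_closure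
      exact le_antisymm hsub (hZ.2 isIrreducible_singleton.closure hsub)
    exact hne ((key Z₁ hZ₁ hx₁).trans (key Z₂ hZ₂ hx₂).symm)

theorem irreducibleSpace_iff' [IsLocallyNoetherian X] :
    IrreducibleSpace X ↔ ConnectedSpace X ∧ ∀ x : X, (nilradical (X.presheaf.stalk x)).IsPrime := by
  constructor
  · intro _
    refine ⟨inferInstance, (pairwiseDisjoint_iff X).1 fun Z₁ hZ₁ Z₂ hZ₂ hne => ?_⟩
    rw [irreducibleComponents_eq_singleton, Set.mem_singleton_iff] at hZ₁ hZ₂
    exact absurd (hZ₁.trans hZ₂.symm) hne
  · rintro ⟨_, h⟩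
    obtain ⟨x⟩ := (inferInstance : Nonempty X)
    have hd := (pairwiseDisjoint_iff X).2 h
    have hopen : IsOpen (irreducibleComponent x) := by
      refine isOpen_iff_forall_mem_open.2 fun y hy => ?_
      obtain ⟨U, hyU, hU⟩ := exists_irreducible_nhd X y (h y)
      obtain ⟨Z', hZ', hUZ, hmax⟩ := exists_preirreducible (U : Set X) hU.2
      have hZmem : Z' ∈ irreducibleComponents (X : Type u) :=
        ⟨⟨hU.1.mono hUZ, hZ'⟩, fun t ht hle => (hmax t ht.2 hle).le⟩
      have e : Z' = irreducibleComponent x :=
        hd.elim hZmem (irreducibleComponent_mem_irreducibleComponents x)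
          (Set.not_disjoint_iff.2 ⟨y, hUZ hyU, hy⟩)
      exact ⟨U, e ▸ hUZ, U.2, hyU⟩
    have huniv : irreducibleComponent x = Set.univ :=
      IsClopen.eq_univ ⟨isClosed_irreducibleComponent, hopen⟩ ⟨x, mem_irreducibleComponent⟩
    refine (irreducibleSpace_def (X : Type u)).2 ?_
    exact Eq.mp (congrArg IsIrreducible huniv) isIrreducible_irreducibleComponent

theorem isIntegral_iff' [IsLocallyNoetherian X] :
    IsIntegral X ↔ ConnectedSpace X ∧ ∀ x : X, IsDomain (X.presheaf.stalk x) := by
  constructor
  · intro _
    exact ⟨inferInstance, fun x => inferInstance⟩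
  · rintro ⟨hc, h⟩
    haveI : ∀ x : X, _root_.IsReduced (X.presheaf.stalk x) := fun x => by
      haveI := h x
      infer_instance
    haveI : IsReduced X := isReduced_of_isReduced_stalk X
    haveI : IrreducibleSpace X := (irreducibleSpace_iff' X).2 ⟨hc, fun x => by
      haveI := h x
      rw [nilradical_eq_zero]
      exact Ideal.isPrime_bot⟩
    exact isIntegral_of_irreducibleSpace_of_isReduced X

variable {X}

theorem isDominant_iff_generic {Y : Scheme.{u}} (f : X ⟶ Y) [QuasiCompact f] :
    IsDominant f ↔ ∀ y : Y, closure {y} ∈ irreducibleComponents (Y : Type u) →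
      ∃ x : X, closure {x} ∈ irreducibleComponents (X : Type u) ∧ f x = y := by
  constructor
  · intro hf y hy
    obtain ⟨x', hx'⟩ := QCRange.exists_specializes f y
      (by rw [f.denseRange.closure_range]; trivial)
    obtain ⟨ζ, hζ⟩ := QuasiSober.sober (isIrreducible_irreducibleComponent (x := x'))
      isClosed_irreducibleComponent
    refine ⟨ζ, by rw [hζ.def]; exact irreducibleComponent_mem_irreducibleComponents _, ?_⟩
    have hs : f.base ζ ⤳ y :=
      ((hζ.specializes mem_irreducibleComponent).map f.continuous).trans hx'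
    have hle : closure {y} ⊆ closure {f.base ζ} :=
      closure_minimal (Set.singleton_subset_iff.2 hs.mem_closure) isClosed_closure
    have hge : closure {f.base ζ} ⊆ closure {y} := hy.2 isIrreducible_singleton.closure hle
    exact (Specializes.antisymm hs
      (specializes_iff_mem_closure.2 (hge (subset_closure rfl)))).eq
  · intro h
    rw [isDominant_iff, denseRange_iff_closure_range, Set.eq_univ_iff_forall]
    intro z
    obtain ⟨η, hη⟩ := QuasiSober.sober (isIrreducible_irreducibleComponent (x := z))
      isClosed_irreducibleComponent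
    obtain ⟨x, -, hx⟩ := h η (by rw [hη.def]; exact irreducibleComponent_mem_irreducibleComponents _)
    exact (hη.specializes mem_irreducibleComponent).mem_closed isClosed_closure
      (subset_closure ⟨x, hx⟩)

end Groth.Agent.FinCondEasy
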